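import Groth.Agent.ProperConn.Integral
import Groth.Agent.FibCodepth.GeomRkScheme
import Groth.Agent.Gor.FlatLocal
import Groth.Agent.AlgSp.GorBC
import Groth.Agent.AlgSp.NoethFib
import Groth.Agent.FBase.BC2
import Groth.Agent.ProperFib.FibDim
import Groth.Agent.S2535
import Groth.Agent.S2539
import Groth.Prelude.Def_Pi1

/-!
# Properties of geometric fibres of Gorenstein surface families, read on the fibres
-/

set_option autoImplicit false
set_option linter.style.haveILetI false
set_option backward.isDefEq.respectTransparency.types false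

universe u

open CategoryTheory CategoryTheory.Limits AlgebraicGeometry TopologicalSpace

noncomputable section

namespace Groth.Agent.GorSurf47

open Groth.Agent.FBase.BC

/-- The conditions on a geometric fibre. -/
def Nice (W : Scheme.{u}) : Prop :=
  IsIntegral W ∧ Pi1.IsNormalScheme W ∧ topologicalKrullDim ↥W = 2 ∧
    ∀ x : ↥W, LocCoh.IsGorensteinLocalRing (W.presheaf.stalk x)

theorem nice_of_iso {V W : Scheme.{u}} (e : V ≅ W) (h : Nice V) : Nice W := by
  obtain ⟨h1, h2, h3, h4⟩ := h
  haveI := h1
  refine ⟨?_, fun w => ?_, ?_, fun w => ?_⟩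
  · haveI : Nonempty W := ⟨e.hom (Classical.arbitrary V)⟩
    exact isIntegral_of_isOpenImmersion e.inv
  · let φ := (asIso (e.inv.stalkMap w)).commRingCatIsoToRingEquiv
    haveI := (h2 (e.inv w)).1
    haveI := (h2 (e.inv w)).2
    exact ⟨φ.symm.toMulEquiv.isDomain _, IsIntegrallyClosed.of_equiv φ⟩
  · exact ((IsHomeomorph.topologicalKrullDim_eq _ (Scheme.homeoOfIso e).isHomeomorph).symm).trans h3
  · exact (Groth.Agent.Gor.FlatLocal.gorenstein_iff_of_ringEquiv
      (asIso (e.inv.stalkMap w)).commRingCatIsoToRingEquiv).1 (h4 _)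

/-- The conditions on a fibre. -/
def Good {X Y : Scheme.{u}} (f : X ⟶ Y) (y : Y) : Prop :=
  ProperConn.GPI f y ∧ MoreMor.nGeomConnComp f y = 1 ∧
  (∀ x : ↥(f.fiber y), ∀ (K : Type u) [Field K] [Algebra (IsLocalRing.ResidueField (Y.presheaf.stalk y)) K],
    Module.Finite (IsLocalRing.ResidueField (Y.presheaf.stalk y)) K →
    ∀ x' : ↥(FBase.bc (f.fiberToSpecResidueField y) K),
      (FBase.bcπ (f.fiberToSpecResidueField y) K).base x' = x →
      IsDomain ((FBase.bc (f.fiberToSpecResidueField y) K).presheaf.stalk x') ∧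
        IsIntegrallyClosed ((FBase.bc (f.fiberToSpecResidueField y) K).presheaf.stalk x')) ∧
  topologicalKrullDim ↥(f.fiber y) = 2 ∧
  ∀ x : ↥(f.fiber y), LocCoh.IsGorensteinLocalRing ((f.fiber y).presheaf.stalk x)

/-- Residue fields of a scheme locally of finite type over a field are finitely generated. -/
theorem exists_residue_hom {κ : Type u} [Field κ] {F : Scheme.{u}} (g : F ⟶ Spec (CommRingCat.of κ))
    [LocallyOfFiniteType g] (z : F) :
    ∃ ψ : κ →+* F.residueField z, ψ.EssFiniteType ∧
      Spec.map (CommRingCat.ofHom ψ) = F.fromSpecResidueField z ≫ g := by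
  let pt : ↥(Spec (CommRingCat.of κ)) := g z
  haveI : IsClosedImmersion ((Spec (CommRingCat.of κ)).fromSpecResidueField pt) := by
    refine .of_isPreimmersion _ ?_
    rw [Scheme.range_fromSpecResidueField]
    haveI : Subsingleton ↥(Spec (CommRingCat.of κ)) := inferInstanceAs (Subsingleton (PrimeSpectrum κ))
    exact (Set.subsingleton_of_subsingleton).isClosed
  obtain ⟨θ, hθ⟩ := Spec.map_surjective ((Spec (CommRingCat.of κ)).fromSpecResidueField pt)
  haveI : LocallyOfFiniteType (Spec.map θ) := hθ ▸ inferInstance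
  have h1 : θ.hom.EssFiniteType :=
    ((HasRingHomProperty.Spec_iff (P := @LocallyOfFiniteType)).1 inferInstance).essFiniteType
  refine ⟨(g.residueFieldMap z).hom.comp θ.hom,
    h1.comp (AlgSp.GorBC.essFiniteType_residueFieldMap g z), ?_⟩
  rw [← Scheme.Hom.SpecMap_residueFieldMap_fromSpecResidueField, ← hθ, ← Spec.map_comp]
  rfl

section Fibre

variable {κ k : Type u} [Field κ] [Field k] [Algebra κ k] {F : Scheme.{u}}
  (g : F ⟶ Spec (CommRingCat.of κ)) [LocallyOfFiniteType g]

theorem gorenstein_bc_iff (w : ↥(pullback g (specMap κ k))) :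
    LocCoh.IsGorensteinLocalRing ((pullback g (specMap κ k)).presheaf.stalk w) ↔
      LocCoh.IsGorensteinLocalRing (F.presheaf.stalk ((pullback.fst g (specMap κ k)) w)) := by
  let p := pullback.fst g (specMap κ k)
  haveI : IsLocallyNoetherian F := LocallyOfFiniteType.isLocallyNoetherian g
  haveI : IsLocallyNoetherian (pullback g (specMap κ k)) :=
    LocallyOfFiniteType.isLocallyNoetherian (pullback.snd g (specMap κ k))
  haveI : Flat p := MorphismProperty.pullback_fst _ _ inferInstance
  let z : F := p w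
  obtain ⟨ψ, hψ, hψe⟩ := exists_residue_hom g z
  have hF : LocCoh.IsGorensteinLocalRing ((p.fiber z).presheaf.stalk (p.asFiber w)) := by
    have sq := (IsPullback.of_hasPullback p (F.fromSpecResidueField z)).paste_horiz
      (IsPullback.of_hasPullback g (specMap κ k)).flip
    refine AlgSp.GorBC.gorenstein_field_pullback (L := k) (algebraMap κ k) ψ hψ
      (p.fiberι z ≫ pullback.snd g (specMap κ k)) (p.fiberToSpecResidueField z) ?_ _
    rw [hψe]
    exact sq
  obtain ⟨e⟩ := FlatMor.FibreStalk.exists_fibre_stalk_equiv p w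
  have hF' : LocCoh.IsGorensteinLocalRing ((pullback g (specMap κ k)).presheaf.stalk w ⧸
      (IsLocalRing.maximalIdeal (F.presheaf.stalk z)).map (p.stalkMap w).hom) :=
    (Groth.Agent.Gor.FlatLocal.gorenstein_iff_of_ringEquiv e).2 hF
  letI := (p.stalkMap w).hom.toAlgebra
  haveI : Module.Flat (F.presheaf.stalk z) ((pullback g (specMap κ k)).presheaf.stalk w) :=
    Flat.stalkMap p w
  haveI : IsLocalHom (algebraMap (F.presheaf.stalk z) ((pullback g (specMap κ k)).presheaf.stalk w)) :=
    inferInstanceAs (IsLocalHom (p.stalkMap w).hom)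
  rw [Groth.Agent.Gor.FlatLocal.gorenstein_flat_local_iff (A := F.presheaf.stalk z)
    (B := (pullback g (specMap κ k)).presheaf.stalk w)]
  exact ⟨fun h => h.1, fun h => ⟨h, hF'⟩⟩

theorem topologicalKrullDim_bc [QuasiCompact g] :
    topologicalKrullDim ↥(pullback g (specMap κ k)) = topologicalKrullDim ↥F := by
  rw [← ProperFib.FibDim.dim_fiber_field (pullback.snd g (specMap κ k)) (IsLocalRing.closedPoint k),
    ← ProperFib.FibDim.dim_fiber_field g ((specMap κ k) (IsLocalRing.closedPoint k))]
  exact Groth.Agent.S9777.result g _ (pullback.snd g (specMap κ k)) (pullback.fst g (specMap κ k))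
    (IsPullback.of_hasPullback g (specMap κ k)) (IsLocalRing.closedPoint k)

theorem normal_finite_of_bc [IsAlgClosed k] (h : Pi1.IsNormalScheme (pullback g (specMap κ k)))
    (K : Type u) [Field K] [Algebra κ K] [Module.Finite κ K] :
    Pi1.IsNormalScheme (pullback g (specMap κ K)) := by
  let ι : K →ₐ[κ] k := IsAlgClosed.lift
  letI : Algebra K k := ι.toRingHom.toAlgebra
  haveI : IsScalarTower κ K k := IsScalarTower.of_algebraMap_eq' ι.comp_algebraMap.symm
  haveI : Flat (FBase.BC2.bcMap g (K := K) (L := k)) :=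
    MorphismProperty.of_isPullback (P := @Flat) (FBase.BC2.isPullback_bcMap g).flip inferInstance
  haveI : Surjective (FBase.BC2.bcMap g (K := K) (L := k)) := FBase.BC2.surjective_bcMap g
  exact Groth.Agent.S2539.result (FBase.BC2.bcMap g (K := K) (L := k)) h

end Fibre

variable {X Y : Scheme.{u}} (f : X ⟶ Y) [LocallyOfFiniteType f] [QuasiCompact f]

instance lft_fibre (y : Y) : LocallyOfFiniteType (X := f.fiber y)
    (Y := Spec (CommRingCat.of (IsLocalRing.ResidueField (Y.presheaf.stalk y)))) (f.fiberToSpecResidueField y) :=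
  inferInstanceAs (LocallyOfFiniteType (pullback.snd f _))

instance qc_fibre (y : Y) : QuasiCompact (X := f.fiber y)
    (Y := Spec (CommRingCat.of (IsLocalRing.ResidueField (Y.presheaf.stalk y)))) (f.fiberToSpecResidueField y) :=
  inferInstanceAs (QuasiCompact (pullback.snd f _))

/-- A geometric point factors through the residue field of its image. -/
theorem exists_factor (k : Type u) [Field k] (σ : Spec (CommRingCat.of k) ⟶ Y) :
    ∃ φ : Y.residueField (σ (IsLocalRing.closedPoint k)) ⟶ CommRingCat.of k,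
      letI : Algebra (IsLocalRing.ResidueField (Y.presheaf.stalk (σ (IsLocalRing.closedPoint k)))) k := φ.hom.toAlgebra
      Nonempty (pullback (f.fiberToSpecResidueField (σ (IsLocalRing.closedPoint k)))
        (specMap (IsLocalRing.ResidueField (Y.presheaf.stalk (σ (IsLocalRing.closedPoint k)))) k) ≅ pullback f σ) := by
  obtain ⟨ψ, hψ⟩ : ∃ ψ : Spec (CommRingCat.of k) ⟶ Spec (Y.residueField (σ (IsLocalRing.closedPoint k))),
      σ = ψ ≫ Y.fromSpecResidueField _ := ⟨_, ((Y.SpecToEquivOfField k).symm_apply_apply σ).symm⟩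
  obtain ⟨φ, rfl⟩ := Spec.map_surjective ψ
  refine ⟨φ, ?_⟩
  letI : Algebra (IsLocalRing.ResidueField (Y.presheaf.stalk (σ (IsLocalRing.closedPoint k)))) k := φ.hom.toAlgebra
  have h : IsPullback (pullback.fst (f.fiberToSpecResidueField _) (Spec.map φ) ≫ f.fiberι _)
      (pullback.snd (f.fiberToSpecResidueField _) (Spec.map φ)) f (Spec.map φ ≫ Y.fromSpecResidueField _) :=
    (IsPullback.of_hasPullback _ (Spec.map φ)).paste_horiz
      (IsPullback.of_hasPullback f (Y.fromSpecResidueField _))
  exact ⟨h.isoPullback ≪≫ pullback.congrHom rfl hψ.symm⟩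

theorem geometricallyIntegral_of_bc {k : Type u} [Field k] [IsAlgClosed k] (y : Y)
    [Algebra (IsLocalRing.ResidueField (Y.presheaf.stalk y)) k]
    (h : IsIntegral (pullback (f.fiberToSpecResidueField y) (specMap (IsLocalRing.ResidueField (Y.presheaf.stalk y)) k))) :
    ProperConn.GPI f y ∧ MoreMor.nGeomConnComp f y = 1 := by
  haveI := h
  haveI : AlgebraicGeometry.IsReduced (FBase.bc (f.fiberToSpecResidueField y) k) :=
    inferInstanceAs (AlgebraicGeometry.IsReduced
      (pullback (f.fiberToSpecResidueField y) (specMap (IsLocalRing.ResidueField (Y.presheaf.stalk y)) k)))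
  have hred : GeometricallyReduced (f.fiberToSpecResidueField y) :=
    Groth.Agent.S2535.result (Ω := k) (f.fiberToSpecResidueField y)
  obtain ⟨e1, e2⟩ := SecComp.nGeom_eq (f.fiberToSpecResidueField y) (specMap (IsLocalRing.ResidueField (Y.presheaf.stalk y)) k)
  have hb := Wt.GenFib.nGeom_baseChange
    (IsPullback.of_hasPullback f (Y.fromSpecResidueField y) :
      IsPullback (f.fiberι y) (f.fiberToSpecResidueField y) f _)
    ((specMap (IsLocalRing.ResidueField (Y.presheaf.stalk y)) k) (IsLocalRing.closedPoint k))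
  erw [Scheme.fromSpecResidueField_apply] at hb
  replace e1 := e1.trans hb.1
  erw [irreducibleComponents_eq_singleton] at e1
  rw [Set.encard_singleton] at e1
  haveI : ConnectedSpace ↥(pullback (f.fiberToSpecResidueField y) (specMap (IsLocalRing.ResidueField (Y.presheaf.stalk y)) k)) :=
    inferInstance
  have hc : ENat.card (_root_.ConnectedComponents
      ↥(pullback (f.fiberToSpecResidueField y) (specMap (IsLocalRing.ResidueField (Y.presheaf.stalk y)) k))) = 1 :=
    ENat.card_eq_one_iff_unique.mpr
      ⟨@Unique.mk' _ ⟨_root_.ConnectedComponents.mk (Classical.arbitrary _)⟩ inferInstance⟩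
  replace e2 := (hc.symm.trans e2).trans hb.2
  exact ⟨(ProperConn.gpi_iff f y).2 ⟨hred, e1.symm.trans e2⟩, e2.symm⟩

theorem good_of_nice (k : Type u) [Field k] [IsAlgClosed k] (σ : Spec (CommRingCat.of k) ⟶ Y)
    (h : Nice (pullback f σ)) : Good f (σ (IsLocalRing.closedPoint k)) := by
  obtain ⟨φ, hφ⟩ := exists_factor f k σ
  letI : Algebra (IsLocalRing.ResidueField (Y.presheaf.stalk (σ (IsLocalRing.closedPoint k)))) k := φ.hom.toAlgebra
  obtain ⟨e⟩ := hφ
  generalize σ (IsLocalRing.closedPoint k) = y at *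
  obtain ⟨hi, hn, hd, hg⟩ := nice_of_iso e.symm h
  obtain ⟨h1, h2⟩ := geometricallyIntegral_of_bc f (k := k) y hi
  haveI := hi
  haveI : Nonempty ↥(f.fiber y) :=
    ⟨(pullback.fst (f.fiberToSpecResidueField y) (specMap (IsLocalRing.ResidueField (Y.presheaf.stalk y)) k)) (Classical.arbitrary _)⟩
  refine ⟨h1, h2, fun x K _ _ hK x' hx' => ?_, ?_, fun x => ?_⟩
  · haveI : Module.Finite (IsLocalRing.ResidueField (Y.presheaf.stalk y)) K := hK
    exact normal_finite_of_bc (k := k) (f.fiberToSpecResidueField y) hn K x'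
  · exact (topologicalKrullDim_bc (F := f.fiber y) (k := k) _).symm.trans hd
  · haveI : Surjective (specMap (IsLocalRing.ResidueField (Y.presheaf.stalk y)) k) := surjective_specMap
    haveI : Surjective (pullback.fst (f.fiberToSpecResidueField y) (specMap (IsLocalRing.ResidueField (Y.presheaf.stalk y)) k)) :=
      MorphismProperty.pullback_fst _ _ inferInstance
    obtain ⟨w, rfl⟩ :=
      (pullback.fst (f.fiberToSpecResidueField y) (specMap (IsLocalRing.ResidueField (Y.presheaf.stalk y)) k)).surjective x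
    exact (gorenstein_bc_iff (f.fiberToSpecResidueField y) w).1 (hg w)

theorem nice_of_good (k : Type u) [Field k] [IsAlgClosed k] (σ : Spec (CommRingCat.of k) ⟶ Y)
    (h : Good f (σ (IsLocalRing.closedPoint k))) : Nice (pullback f σ) := by
  obtain ⟨φ, hφ⟩ := exists_factor f k σ
  letI : Algebra (IsLocalRing.ResidueField (Y.presheaf.stalk (σ (IsLocalRing.closedPoint k)))) k := φ.hom.toAlgebra
  obtain ⟨e⟩ := hφ
  refine nice_of_iso e ?_
  clear e
  generalize σ (IsLocalRing.closedPoint k) = y at *
  obtain ⟨h1, h2, hn, hd, hg⟩ := h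
  haveI := (ProperConn.geometricallyIntegral_fibre_iff f y).2 ⟨h1, h2⟩
  haveI hint : IsIntegral (pullback (f.fiberToSpecResidueField y) (specMap (IsLocalRing.ResidueField (Y.presheaf.stalk y)) k)) :=
    GeometricallyIntegral.geometrically_isIntegral _ _ _
      (IsPullback.of_hasPullback (f.fiberToSpecResidueField y) (specMap (IsLocalRing.ResidueField (Y.presheaf.stalk y)) k))
  haveI : Nonempty ↥(f.fiber y) :=
    ⟨(pullback.fst (f.fiberToSpecResidueField y) (specMap (IsLocalRing.ResidueField (Y.presheaf.stalk y)) k)) (Classical.arbitrary _)⟩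
  refine ⟨hint, fun w => ?_, ?_, fun w => ?_⟩
  · exact (FibCodepth.forall_normal_iff_finite (f.fiberToSpecResidueField y) _).2 (hn _) k w rfl
  · exact (topologicalKrullDim_bc (F := f.fiber y) (k := k) _).trans hd
  · exact (gorenstein_bc_iff (f.fiberToSpecResidueField y) w).2 (hg _)

end Groth.Agent.GorSurf47

end
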